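import Cfsg.Agent.H678.DG.Sph
import Mathlib.Data.Sym.Card

/-!
# Irreducible spaces of functions with one invariant (helper714)

`G` acts transitively on the finite set `X`.

* `exists_of_top` : `V ≠ ⊥` is a `G`-invariant space of functions on `X`, the functions of `V` fixed by a subgroup `K` of
  the stabiliser of `x₀` are multiples of `v`, `v x₀ = 1`: `V` affords an irreducible character of degree
  `|X| / ∑ |v x| ^ 2`, and this is the dimension of `V`.
* `perp M` : the functions orthogonal to `M` (bilinear form `∑ φ x * f x`), `finrank_perp`.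
* `Pol c k` : the polynomial functions of degree `k` in the coordinates `c x i`, `finrank_Pol_le`.
* `exists_of_classes` : the check with a list of classes.
-/

set_option autoImplicit false
set_option linter.unusedSectionVars false

namespace Cfsg.Agent.H714.DG.Top

open Cfsg Representation Cfsg.Agent.H678.DG.Sph
open scoped ComplexConjugate

universe u v

section general

variable {X : Type v} [Fintype X]

/-- The functions orthogonal to `M`. -/
def perp (M : Submodule ℂ (X → ℂ)) : Submodule ℂ (X → ℂ) where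
  carrier := {φ | ∀ f ∈ M, ∑ x, φ x * f x = 0}
  add_mem' := by
    intro φ ψ h1 h2 f hf
    simp only [Pi.add_apply, add_mul, Finset.sum_add_distrib]
    rw [h1 f hf, h2 f hf, add_zero]
  zero_mem' := by
    intro f _
    simp
  smul_mem' := by
    intro c φ h1 f hf
    simp only [Pi.smul_apply, smul_eq_mul, mul_assoc]
    rw [← Finset.mul_sum, h1 f hf, mul_zero]

theorem mem_perp {M : Submodule ℂ (X → ℂ)} {φ : X → ℂ} : φ ∈ perp M ↔ ∀ f ∈ M, ∑ x, φ x * f x = 0 := Iff.rfl

/-- The bilinear form. -/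
noncomputable def bil (X : Type v) [Fintype X] : LinearMap.BilinForm ℂ (X → ℂ) :=
  open Classical in Matrix.toBilin' (1 : Matrix X X ℂ)

theorem bil_apply (φ f : X → ℂ) : bil X φ f = ∑ x, φ x * f x := by
  classical
  unfold bil
  rw [Matrix.toBilin'_apply']
  simp [dotProduct]

theorem bil_isSymm : (bil X).IsSymm := by
  constructor
  intro φ f
  rw [bil_apply, bil_apply]
  exact Finset.sum_congr rfl fun x _ => mul_comm _ _

theorem bil_nondegenerate : (bil X).Nondegenerate := by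
  classical
  unfold bil
  exact LinearMap.BilinForm.nondegenerate_toBilin'_of_det_ne_zero' _ (by rw [Matrix.det_one]; exact one_ne_zero)

theorem perp_eq (M : Submodule ℂ (X → ℂ)) : perp M = (bil X).orthogonal M := by
  ext φ
  rw [mem_perp, LinearMap.BilinForm.mem_orthogonal_iff]
  refine forall_congr' fun f => forall_congr' fun _ => ?_
  show _ ↔ bil X f φ = 0
  rw [bil_apply]
  exact ⟨fun h => by rw [← h]; exact Finset.sum_congr rfl fun x _ => mul_comm _ _,
    fun h => by rw [← h]; exact Finset.sum_congr rfl fun x _ => mul_comm _ _⟩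

theorem finrank_perp (M : Submodule ℂ (X → ℂ)) :
    Module.finrank ℂ (perp M) = Fintype.card X - Module.finrank ℂ M := by
  rw [perp_eq, LinearMap.BilinForm.finrank_orthogonal bil_nondegenerate, Module.finrank_fintype_fun_eq_card]

theorem finrank_perp_add (M : Submodule ℂ (X → ℂ)) :
    Module.finrank ℂ (perp M) + Module.finrank ℂ M = Fintype.card X := by
  rw [finrank_perp]
  have h := Submodule.finrank_le M
  rw [Module.finrank_fintype_fun_eq_card] at h
  omega

theorem perp_ne_bot {M : Submodule ℂ (X → ℂ)} (h : Module.finrank ℂ M < Fintype.card X) : perp M ≠ ⊥ := by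
  intro h0
  have h1 := finrank_perp M
  rw [h0, finrank_bot] at h1
  omega

/-- A big space meets a small codimension space. -/
theorem inf_perp_ne_bot {V M : Submodule ℂ (X → ℂ)} (h : Module.finrank ℂ M < Module.finrank ℂ V) : V ⊓ perp M ≠ ⊥ := by
  intro h0
  have h1 := Submodule.finrank_sup_add_finrank_inf_eq V (perp M)
  rw [h0, finrank_bot] at h1
  have h2 := finrank_perp_add M
  have h3 := Submodule.finrank_le (V ⊔ perp M)
  rw [Module.finrank_fintype_fun_eq_card] at h3
  omega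

variable {G : Type u} [Group G] [MulAction G X]

/-- Invariance of the orthogonal space. -/
theorem perp_inv {M : Submodule ℂ (X → ℂ)} (hM : ∀ (g : G), ∀ φ ∈ M, (fun x => φ (g⁻¹ • x)) ∈ M) (g : G) :
    ∀ φ ∈ perp M, (fun x => φ (g⁻¹ • x)) ∈ perp M := by
  intro φ hφ f hf
  rw [← Equiv.sum_comp (MulAction.toPerm g) fun x => φ (g⁻¹ • x) * f x]
  have h1 := hφ _ (hM g⁻¹ f hf)
  rw [← h1]
  refine Finset.sum_congr rfl fun x _ => ?_
  rw [MulAction.toPerm_apply, inv_smul_smul, inv_inv]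

theorem inf_inv {M N : Submodule ℂ (X → ℂ)} (hM : ∀ (g : G), ∀ φ ∈ M, (fun x => φ (g⁻¹ • x)) ∈ M)
    (hN : ∀ (g : G), ∀ φ ∈ N, (fun x => φ (g⁻¹ • x)) ∈ N) (g : G) :
    ∀ φ ∈ M ⊓ N, (fun x => φ (g⁻¹ • x)) ∈ M ⊓ N := fun φ hφ => ⟨hM g φ hφ.1, hN g φ hφ.2⟩

theorem sup_inv {M N : Submodule ℂ (X → ℂ)} (hM : ∀ (g : G), ∀ φ ∈ M, (fun x => φ (g⁻¹ • x)) ∈ M)
    (hN : ∀ (g : G), ∀ φ ∈ N, (fun x => φ (g⁻¹ • x)) ∈ N) (g : G) :
    ∀ φ ∈ M ⊔ N, (fun x => φ (g⁻¹ • x)) ∈ M ⊔ N := by
  intro φ hφ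
  obtain ⟨a, ha, b, hb, rfl⟩ := Submodule.mem_sup.1 hφ
  exact Submodule.mem_sup.2 ⟨_, hM g a ha, _, hN g b hb, rfl⟩

/-- Invariance of a span. -/
theorem span_inv {S : Set (X → ℂ)} (hS : ∀ (g : G), ∀ φ ∈ S, (fun x => φ (g⁻¹ • x)) ∈ Submodule.span ℂ S) (g : G) :
    ∀ φ ∈ Submodule.span ℂ S, (fun x => φ (g⁻¹ • x)) ∈ Submodule.span ℂ S := by
  intro φ hφ
  induction hφ using Submodule.span_induction with
  | mem φ h => exact hS g φ h
  | zero => exact Submodule.zero_mem _
  | add φ ψ _ _ h1 h2 => exact Submodule.add_mem _ h1 h2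
  | smul c φ _ h1 => exact Submodule.smul_mem _ c h1

variable [Finite G]

/-- **Irreducibility of a space of functions with one invariant.** -/
theorem exists_of_top [MulAction.IsPretransitive G X] {V : Submodule ℂ (X → ℂ)}
    (hV : ∀ (g : G), ∀ φ ∈ V, (fun x => φ (g⁻¹ • x)) ∈ V) (hne : V ≠ ⊥) (x₀ : X)
    (K : Subgroup G) (hK : ∀ g ∈ K, g • x₀ = x₀) {v : X → ℂ} (hv1 : v x₀ = 1)
    (huniq : ∀ φ ∈ V, (∀ g ∈ K, ∀ x, φ (g • x) = φ x) → ∃ c : ℂ, φ = c • v) :
    v ∈ V ∧ ∃ χ : IrrCharacter G, (charDegree (χ : G → ℂ) : ℂ) * nrm v = (Fintype.card X : ℂ) ∧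
      charDegree (χ : G → ℂ) = Module.finrank ℂ V ∧ (χ : G → ℂ) = (rep V hV).character := by
  classical
  have := Fintype.ofFinite (MulAction.stabilizer G x₀)
  obtain ⟨φ, hφ, hφ0⟩ := Submodule.exists_mem_ne_zero_of_ne_bot hne
  obtain ⟨y, hy⟩ : ∃ y, φ y ≠ 0 := by
    by_contra hcon
    push Not at hcon
    exact hφ0 (funext hcon)
  obtain ⟨g, hg⟩ := MulAction.exists_smul_eq G x₀ y
  -- a function not vanishing at `x₀`
  have hψ := hV g⁻¹ φ hφ
  rw [inv_inv] at hψ
  set ψ : X → ℂ := fun x => φ (g • x) with hψd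
  have hψ0 : ψ x₀ ≠ 0 := by rw [hψd]; show φ (g • x₀) ≠ 0; rw [hg]; exact hy
  set S := MulAction.stabilizer G x₀ with hS
  let av : X → ℂ := ∑ k : S, fun x => ψ ((k : G) • x)
  have hav : ∀ x, av x = ∑ k : S, ψ ((k : G) • x) := by
    intro x
    show (∑ k : S, fun x => ψ ((k : G) • x)) x = _
    rw [Finset.sum_apply]
  have havV : av ∈ V := by
    refine V.sum_mem fun k _ => ?_
    have h1 := hV ((k : G)⁻¹) ψ hψ
    simp only [inv_inv] at h1
    exact h1
  have havS : ∀ g : G, g • x₀ = x₀ → ∀ x, av (g • x) = av x := by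
    intro g hg x
    rw [hav, hav]
    rw [← Equiv.sum_comp (Equiv.mulRight (⟨g, hg⟩ : S)) fun k : S => ψ ((k : G) • x)]
    refine Finset.sum_congr rfl fun k _ => ?_
    rw [Equiv.coe_mulRight, Subgroup.coe_mul, mul_smul]
  have h0 : av x₀ ≠ 0 := by
    rw [hav]
    have h1 : ∀ k : S, ψ ((k : G) • x₀) = ψ x₀ := fun k => by
      rw [MulAction.mem_stabilizer_iff.1 k.2]
    rw [Finset.sum_congr rfl fun k _ => h1 k, Finset.sum_const, Finset.card_univ, nsmul_eq_mul]
    exact mul_ne_zero (Nat.cast_ne_zero.2 Fintype.card_ne_zero) hψ0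
  obtain ⟨c, hc⟩ := huniq av havV fun g hg x => havS g (hK g hg) x
  have hc0 : c ≠ 0 := by
    rintro rfl
    rw [zero_smul] at hc
    exact h0 (congrFun hc x₀)
  have hvV : v ∈ V := by
    have h1 : v = c⁻¹ • av := by
      rw [hc, smul_smul, inv_mul_cancel₀ hc0, one_smul]
    rw [h1]
    exact V.smul_mem _ havV
  obtain ⟨χ, h1, h2⟩ := exists_of_spherical' hV x₀ hvV hv1 K hK huniq
  refine ⟨hvV, χ, h1, ?_, h2⟩
  rw [h2]
  apply H670.PSing.charDegree_eq_of
  rw [Representation.char_one]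

end general

/-! ### polynomial functions -/

section pol

variable {X : Type v} [Fintype X] {ι : Type} [Fintype ι] [DecidableEq ι] (c : X → ι → ℂ)

/-- A product of linear forms. -/
def pl {k : ℕ} (l : Fin k → ι → ℂ) : X → ℂ := fun x => ∏ t, ∑ j, l t j * c x j

/-- The polynomial functions of degree `k`. -/
def Pol (k : ℕ) : Submodule ℂ (X → ℂ) := Submodule.span ℂ (Set.range (pl c (k := k)))

/-- The monomials. -/
def mono {k : ℕ} (s : Sym ι k) : X → ℂ := fun x => ((s : Multiset ι).map (c x)).prod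

theorem Pol_le {k : ℕ} : Pol c k ≤ Submodule.span ℂ (Set.range (mono c (k := k))) := by
  refine Submodule.span_le.2 ?_
  rintro _ ⟨l, rfl⟩
  have h1 : pl c l = ∑ p : Fin k → ι, (∏ t, l t (p t)) •
      mono c (⟨Finset.univ.val.map p, by simp⟩ : Sym ι k) := by
    funext x
    unfold pl
    rw [Finset.prod_univ_sum, Finset.sum_apply, Fintype.piFinset_univ]
    refine Finset.sum_congr rfl fun p _ => ?_
    rw [Pi.smul_apply, smul_eq_mul, Finset.prod_mul_distrib]
    congr 1
    show _ = ((Finset.univ.val.map p).map (c x)).prod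
    rw [Multiset.map_map]
    rfl
  rw [h1]
  exact Submodule.sum_mem _ fun p _ => Submodule.smul_mem _ _ (Submodule.subset_span ⟨_, rfl⟩)

theorem finrank_Pol_le (k : ℕ) : Module.finrank ℂ (Pol c k) ≤ (Fintype.card ι).multichoose k := by
  refine (Submodule.finrank_mono (Pol_le c)).trans ?_
  have h := finrank_range_le_card (R := ℂ) (mono c (k := k))
  rw [Sym.card_sym_eq_multichoose] at h
  exact h

variable {G : Type u} [Group G] [MulAction G X]

/-- Invariance of the polynomial functions under a group acting linearly on the coordinates. -/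
theorem Pol_inv (hc : ∀ g : G, ∃ A : ι → ι → ℂ, ∀ x i, c (g • x) i = ∑ j, A i j * c x j) (k : ℕ) (g : G) :
    ∀ φ ∈ Pol c k, (fun x => φ (g⁻¹ • x)) ∈ Pol c k := by
  refine span_inv ?_ g
  rintro g _ ⟨l, rfl⟩
  obtain ⟨A, hA⟩ := hc g⁻¹
  refine Submodule.subset_span ⟨fun t j => ∑ i, l t i * A i j, ?_⟩
  funext x
  unfold pl
  refine Finset.prod_congr rfl fun t _ => ?_
  simp only [hA, Finset.mul_sum, Finset.sum_mul]
  rw [Finset.sum_comm]
  refine Finset.sum_congr rfl fun i _ => Finset.sum_congr rfl fun j _ => ?_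
  ring

theorem pl_mem {k : ℕ} (l : Fin k → ι → ℂ) : pl c l ∈ Pol c k := Submodule.subset_span ⟨l, rfl⟩

/-- `f ^ i * h ^ (k - i)` for linear forms. -/
theorem pow_mem (l m : ι → ℂ) {k i : ℕ} (hi : i ≤ k) :
    (fun x => (∑ j, l j * c x j) ^ i * (∑ j, m j * c x j) ^ (k - i)) ∈ Pol c k := by
  have h1 : (fun x => (∑ j, l j * c x j) ^ i * (∑ j, m j * c x j) ^ (k - i)) =
      pl c (fun t : Fin k => if (t : ℕ) < i then l else m) := by
    funext x
    unfold pl
    have h2 : ∀ t : Fin k, (∑ j, (if (t : ℕ) < i then l else m) j * c x j) =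
        if (t : ℕ) < i then (∑ j, l j * c x j) else (∑ j, m j * c x j) := by
      intro t
      split_ifs <;> rfl
    rw [Finset.prod_congr rfl fun t _ => h2 t, Finset.prod_ite, Finset.prod_const, Finset.prod_const]
    have h3 : (Finset.univ.filter fun t : Fin k => (t : ℕ) < i).card = i := by
      rw [Fin.card_filter_val_lt]
      omega
    have h4 : (Finset.univ.filter fun t : Fin k => ¬ (t : ℕ) < i).card = k - i := by
      have h5 := Finset.card_filter_add_card_filter_not (s := (Finset.univ : Finset (Fin k))) fun t : Fin k => (t : ℕ) < i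
      rw [Finset.card_univ, Fintype.card_fin] at h5
      omega
    rw [h3, h4]
  rw [h1]
  exact pl_mem c _

end pol

/-! ### classes -/

section classes

variable {X : Type v} [Fintype X] {G : Type u} [Group G] [MulAction G X] [Finite G] {n m : ℕ}

/-- **The check with a list of classes**: the `K`-invariant functions of `V` are constant on the classes, and satisfy the
linear conditions `R`; these conditions have (by the certificate `L`) only the multiples of `a` as solutions. -/
theorem exists_of_classes [MulAction.IsPretransitive G X] {V : Submodule ℂ (X → ℂ)}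
    (hV : ∀ (g : G), ∀ φ ∈ V, (fun x => φ (g⁻¹ • x)) ∈ V) (hne : V ≠ ⊥) (x₀ : X) (K : Subgroup G)
    (hK : ∀ g ∈ K, g • x₀ = x₀) (cls : X → Fin n) (N : Fin n → ℕ)
    (hN : ∀ j, (Finset.univ.filter fun x => cls x = j).card = N j)
    (hcl : ∀ φ ∈ V, (∀ g ∈ K, ∀ x, φ (g • x) = φ x) → ∃ a : Fin n → ℂ, φ = fun x => a (cls x))
    (R : Fin m → Fin n → ℚ)
    (hR : ∀ a : Fin n → ℂ, (fun x => a (cls x)) ∈ V → ∀ i, ∑ j, (R i j : ℂ) * a j = 0)
    (a : Fin n → ℚ) (L : Fin n → Fin m → ℚ) (j₀ : Fin n) (hj₀ : cls x₀ = j₀)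
    (hL : ∀ j j', ∑ i, L j i * R i j' = (if j = j' then 1 else 0) - (if j₀ = j' then a j else 0))
    (ha : a j₀ = 1) (d : ℕ) (hd : (d : ℚ) * ∑ j, (N j : ℚ) * a j ^ 2 = Fintype.card X) :
    (∃ χ : IrrCharacter G, charDegree (χ : G → ℂ) = d) ∧ Module.finrank ℂ V = d ∧
      (fun x => (a (cls x) : ℂ)) ∈ V := by
  classical
  obtain ⟨hv, χ, h1, h2, -⟩ := exists_of_top hV hne x₀ K hK (v := fun x => (a (cls x) : ℂ))
    (by show ((a (cls x₀) : ℚ) : ℂ) = 1; rw [hj₀, ha, Rat.cast_one]) (by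
      intro φ hφ hφK
      obtain ⟨b, rfl⟩ := hcl φ hφ hφK
      have h3 := hR b hφ
      refine ⟨b j₀, funext fun x => ?_⟩
      show b (cls x) = b j₀ * (a (cls x) : ℂ)
      generalize cls x = j
      have h4 : ∑ j', ((∑ i, L j i * R i j' : ℚ) : ℂ) * b j' = 0 := by
        have h5 : ∀ j', ((∑ i, L j i * R i j' : ℚ) : ℂ) * b j' = ∑ i, (L j i : ℂ) * ((R i j' : ℂ) * b j') := by
          intro j'
          rw [Rat.cast_sum, Finset.sum_mul]
          refine Finset.sum_congr rfl fun i _ => ?_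
          rw [Rat.cast_mul, mul_assoc]
        rw [Finset.sum_congr rfl fun j' _ => h5 j', Finset.sum_comm]
        refine Finset.sum_eq_zero fun i _ => ?_
        rw [← Finset.mul_sum, h3 i, mul_zero]
      have h6 : ∀ j', ((∑ i, L j i * R i j' : ℚ) : ℂ) * b j' =
          (if j = j' then b j' else 0) - (if j₀ = j' then (a j : ℂ) * b j' else 0) := by
        intro j'
        rw [hL]
        split_ifs <;> push_cast <;> ring
      rw [Finset.sum_congr rfl fun j' _ => h6 j', Finset.sum_sub_distrib, Finset.sum_ite_eq, Finset.sum_ite_eq,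
        if_pos (Finset.mem_univ _), if_pos (Finset.mem_univ _), sub_eq_zero] at h4
      rw [h4, mul_comm])
  have h3 : nrm (fun x => (a (cls x) : ℂ)) = ((∑ j, (N j : ℚ) * a j ^ 2 : ℚ) : ℂ) := by
    rw [nrm_cls cls N hN (fun j => (a j : ℂ)), Rat.cast_sum]
    refine Finset.sum_congr rfl fun j _ => ?_
    rw [map_ratCast]
    push_cast
    ring
  rw [h3] at h1
  have h4 : (charDegree (χ : G → ℂ) : ℚ) * ∑ j, (N j : ℚ) * a j ^ 2 = Fintype.card X := by
    have h5 : (((charDegree (χ : G → ℂ) : ℚ) * ∑ j, (N j : ℚ) * a j ^ 2 : ℚ) : ℂ) = ((Fintype.card X : ℚ) : ℂ) := by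
      push_cast
      push_cast at h1
      exact h1
    exact_mod_cast h5
  have h5 : (0 : ℚ) < Fintype.card X := Nat.cast_pos.2 (Fintype.card_pos_iff.2 ⟨x₀⟩)
  have h6 : (∑ j, (N j : ℚ) * a j ^ 2) ≠ 0 := by
    intro h0
    rw [h0, mul_zero] at h4
    exact h5.ne h4
  have h7 : charDegree (χ : G → ℂ) = d := by
    have : (charDegree (χ : G → ℂ) : ℚ) = d := mul_right_cancel₀ h6 (h4.trans hd.symm)
    exact_mod_cast this
  exact ⟨⟨χ, h7⟩, by rw [← h2, h7], hv⟩

end classes

end Cfsg.Agent.H714.DG.Top
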