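import Cfsg.Agent.H714.DG.CoTwoX
import Cfsg.Agent.H843.IMC.Co2A
import Cfsg.Agent.H843.IMC.Co2B

/-!
# The degree graph of `Co2`, modulo a character of degree divisible by `6` (helper714)
-/

set_option autoImplicit false

namespace Cfsg.Agent.H714.DG.CoTwoF

open Cfsg Cfsg.Agent.H678.DG

universe u

theorem im_44275 : H671.H5.IM 44275 Spor.Co2 := by
  obtain ⟨χ, h⟩ := CoTwoX.exists_44275
  exact ⟨χ, by rw [h]⟩

/-- The degree graph of `Co2`. -/
theorem facts_co2_of {S : Type u} [Group S] (h : Spor.IsoCo2 S) (h6 : H671.H5.IM 6 Spor.Co2) : Facts S := by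
  obtain ⟨e⟩ := h
  refine Facts.of_equiv e ?_
  have : Finite Spor.Co2 := Cfsg.Agent.Co2Type.CardCo2.finite_co2
  refine Facts.of_list (P := [2, 3, 11, 23, 5, 7]) (D := [6, 2024, 2277, 44275]) ?_ (by decide)
    (mem_of_card (f := fun _ => 18) ?_ ?_) ?_ (by decide +kernel)
  · intro p hp; fin_cases hp <;> norm_num
  · rw [Cfsg.Agent.Co2Type.CardCo2.card_co2]; decide +kernel
  · intro p hp; fin_cases hp <;> norm_num
  · intro m hm
    simp only [List.mem_cons, List.not_mem_nil, or_false] at hm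
    rcases hm with rfl | rfl | rfl | rfl
    · exact h6
    · exact Rows.im_of_hasDeg Cfsg.Agent.H843.IMC.Co2A.hasDeg_2024_275.1
    · exact Rows.im_of_hasDeg Cfsg.Agent.H843.IMC.Co2B.hasDeg_2277
    · exact im_44275

end Cfsg.Agent.H714.DG.CoTwoF
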