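import Cfsg.Agent.H678.DG.Basic
import Cfsg.Agent.H843.IMC.Co2B

/-!
# Degree graph facts for `Co2` (helper714)

* `tri_co2` : the triangle `3, 11, 23` from the degree `2277`.
-/

set_option autoImplicit false

namespace Cfsg.Agent.H714.DG.CoTwo

open Cfsg Cfsg.Agent.H671.H5 Cfsg.Agent.H672.SporIM Cfsg.Agent.H843.IMC

universe u

/-- A triangle from a degree. -/
theorem tri_of_hasDeg {S : Type*} [Group S] {d p q r : ℕ} (h : HasDeg S d) (hp : p.Prime) (hq : q.Prime)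
    (hr : r.Prime) (hpq : p ≠ q) (hqr : q ≠ r) (hpr : p ≠ r) (h1 : p * q ∣ d) (h2 : q * r ∣ d) (h3 : p * r ∣ d) :
    ∃ p q r : ℕ, Adj p q S ∧ Adj q r S ∧ Adj p r S := by
  obtain ⟨χ, hχ⟩ := h
  exact ⟨p, q, r, adj_iff.2 ⟨hpq, hp, hq, χ, by rw [hχ]; exact h1⟩, adj_iff.2 ⟨hqr, hq, hr, χ, by rw [hχ]; exact h2⟩,
    adj_iff.2 ⟨hpr, hp, hr, χ, by rw [hχ]; exact h3⟩⟩

/-- The triangle of `Co2`. -/
theorem tri_co2 {S : Type u} [Group S] (h : Cfsg.Spor.IsoCo2 S) :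
    ∃ p q r : ℕ, Adj p q S ∧ Adj q r S ∧ Adj p r S := by
  obtain ⟨e⟩ := h
  exact tri_of_hasDeg (HasDeg.of_equiv e Co2B.hasDeg_2277) (p := 3) (q := 11) (r := 23) (by norm_num) (by norm_num)
    (by norm_num) (by norm_num) (by norm_num) (by norm_num) (by norm_num) (by norm_num) (by norm_num)

end Cfsg.Agent.H714.DG.CoTwo
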