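import Cfsg.Agent.H714.DG.CoTwoF
import Cfsg.Agent.H653.Sieve.Dist

/-!
# The degree graph of `Co2`: connected, a triangle, diameter (helper714)
-/

set_option autoImplicit false

namespace Cfsg.Agent.H714.DG.CoTwoD

open Cfsg Cfsg.Agent.H678.DG Cfsg.Agent.H653.Graph

universe u

/-- The degree graph of `Co2`, with the diameter. -/
theorem dist_co2 {S : Type u} [Group S] (h : Spor.IsoCo2 S) : DistFacts S := by
  obtain ⟨e⟩ := h
  refine DistFacts.of_equiv ?_ e
  have : Finite Spor.Co2 := Cfsg.Agent.Co2Type.CardCo2.finite_co2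
  refine distFacts [11, 2, 3, 5, 7, 23] (by norm_num) (by decide) ?_ [[275], [2024], [2277], [44275]] ?_ ?_ ?_ ?_ (by decide)
  · intro p hp hd
    rw [Cfsg.Agent.Co2Type.CardCo2.card_co2,
      show (42305421312000 : ℕ) = 2 ^ 18 * 3 ^ 6 * 5 ^ 3 * 7 * 11 * 23 by norm_num] at hd
    have key : ∀ a b : ℕ, p ∣ a * b → p ∣ a ∨ p ∣ b := fun a b h => (Nat.Prime.dvd_mul hp).1 h
    have k2 : ∀ q n : ℕ, q.Prime → p ∣ q ^ n → p = q := fun q n hq h =>
      (Nat.prime_dvd_prime_iff_eq hp hq).1 (hp.dvd_of_dvd_pow h)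
    have k1 : ∀ q : ℕ, q.Prime → p ∣ q → p = q := fun q hq h => (Nat.prime_dvd_prime_iff_eq hp hq).1 h
    rcases key _ _ hd with h | h
    · rcases key _ _ h with h | h
      · rcases key _ _ h with h | h
        · rcases key _ _ h with h | h
          · rcases key _ _ h with h | h
            · rw [k2 2 18 (by norm_num) h]; decide
            · rw [k2 3 6 (by norm_num) h]; decide
          · rw [k2 5 3 (by norm_num) h]; decide
        · rw [k1 7 (by norm_num) h]; decide
      · rw [k1 11 (by norm_num) h]; decide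
    · rw [k1 23 (by norm_num) h]; decide
  · intro c hc
    have h1 : ∀ d, H671.H5.IM d Spor.Co2 → Cl Spor.Co2 [d] := by
      intro d hd
      exact ⟨d, by simp, hd⟩
    simp only [List.mem_cons, List.not_mem_nil, or_false] at hc
    rcases hc with rfl | rfl | rfl | rfl
    · exact h1 _ (Rows.im_of_hasDeg Cfsg.Agent.H843.IMC.Co2A.hasDeg_2024_275.2)
    · exact h1 _ (Rows.im_of_hasDeg Cfsg.Agent.H843.IMC.Co2A.hasDeg_2024_275.1)
    · exact h1 _ (Rows.im_of_hasDeg Cfsg.Agent.H843.IMC.Co2B.hasDeg_2277)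
    · exact h1 _ CoTwoF.im_44275
  · decide +kernel
  · decide +kernel
  · decide +kernel

/-- The degree graph of `Co2` is connected. -/
theorem conn_co2 {S : Type u} [Group S] (h : Spor.IsoCo2 S) :
    ((Cfsg.degreeGraph S).induce (Cfsg.degreePrimes S)).Connected := (dist_co2 h).conn

/-- Any two vertices of the degree graph of `Co2` are joined by a walk of length at most three. -/
theorem dia_co2 {S : Type u} [Group S] (h : Spor.IsoCo2 S) :
    ∀ u v : ↥(Cfsg.degreePrimes S), ∃ w : ((Cfsg.degreeGraph S).induce (Cfsg.degreePrimes S)).Walk u v, w.length ≤ 3 :=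
  (dist_co2 h).dia

end Cfsg.Agent.H714.DG.CoTwoD
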