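import Cfsg.Agent.SporadicStructure.CrossMaxEnd
import Cfsg.Agent.SporadicStructure.Co2RankThree

/-!
# Orbits of the stabiliser of `(4, 4, 0²²)` and `(4, -4, 0²²)` on the minimal vectors orthogonal to the first (helper714)

* `trans16`, `trans8` : transitivity on the vectors of inner product `16`, `8` with `b0`.
* `exists_neg` : the vectors orthogonal to both are moved to their negatives.
-/

set_option autoImplicit false
open scoped Pointwise
open Cfsg

namespace Cfsg.Agent.H714.DG.CoTwoG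

open Cfsg.Agent.SporadicA.GolayBase Cfsg.Agent.SporadicA.GolayPerm
open Cfsg.Agent.SporadicStructure.MinShapes Cfsg.Agent.SporadicStructure.MonoPerms
open Cfsg.Agent.SporadicStructure.MonoSigns Cfsg.Agent.SporadicStructure.MonoTypes
open Cfsg.Agent.SporadicStructure.Co0Base
open Cfsg.Agent.SporadicStructure.MonoOrbits hiding b0 orb2 orb4
open Cfsg.Agent.SporadicStructure.CrossCrit Cfsg.Agent.SporadicStructure.CrossMax
open Cfsg.Agent.SporadicStructure.Co2RankThree (dt a0 b0 dt_a0 dt_b0 norm_eq dt_comm)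

theorem a0_eq (i : GolayPt) (h1 : i ≠ none) (h2 : i ≠ some 0) : (a0 : GolayPt → ℤ) i = 0 := by
  show Spor.vecU i = 0
  unfold Spor.vecU
  rw [if_neg (by tauto)]

theorem b0_eq (i : GolayPt) (h1 : i ≠ none) (h2 : i ≠ some 0) : (b0 : GolayPt → ℤ) i = 0 := by
  show Spor.vecU' i = 0
  unfold Spor.vecU'
  rw [if_neg h1, if_neg h2]

theorem v0_eq : v0 = a0 := by
  apply Subtype.ext
  funext i
  show vec 4 {none, some 0} ∅ i = Spor.vecU i
  unfold Spor.vecU
  rw [vec_apply]
  simp only [Finset.mem_insert, Finset.mem_singleton, Finset.notMem_empty, if_false]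

/-- A monomial map fixing the vectors supported on `none`, `some 0`. -/
theorem mono_fix {σ : Equiv.Perm GolayPt} (hσ : σ ∈ N22) {d : Finset GolayPt} (hd : d ∈ SC)
    (h1 : none ∉ d ∧ some 0 ∉ d) (x : leechLattice) (hx : ∀ i, i ≠ none → i ≠ some 0 → (x : GolayPt → ℤ) i = 0) :
    monomial σ (N22_le hσ) d hd • x = x := by
  obtain ⟨-, hσn, hσ0⟩ := mem_N22.1 hσ
  apply Subtype.ext
  funext i
  rw [monomial_smul, signedPerm_apply]
  by_cases hi : i = none
  · subst hi
    rw [if_neg h1.1, (Equiv.symm_apply_eq σ).2 hσn.symm]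
  by_cases hi0 : i = some 0
  · subst hi0
    rw [if_neg h1.2, (Equiv.symm_apply_eq σ).2 hσ0.symm]
  · have h2 : (x : GolayPt → ℤ) (σ.symm i) = 0 := by
      apply hx
      · intro h
        rw [Equiv.symm_apply_eq, hσn] at h
        exact hi h
      · intro h
        rw [Equiv.symm_apply_eq, hσ0] at h
        exact hi0 h
    rw [h2, hx i hi hi0]
    split_ifs <;> rfl

/-- The vectors in the orbit of `r` under the stabiliser. -/
def Rc (r v : leechLattice) : Prop := ∃ g : Co0, g • a0 = a0 ∧ g • b0 = b0 ∧ g • r = v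

theorem Rc.trans' {r v w : leechLattice} (h : Rc r v) (h' : Rc r w) : Rc v w := by
  obtain ⟨g, g1, g2, g3⟩ := h
  obtain ⟨k, k1, k2, k3⟩ := h'
  refine ⟨k * g⁻¹, ?_, ?_, ?_⟩
  · rw [mul_smul, inv_smul_eq_iff.2 g1.symm, k1]
  · rw [mul_smul, inv_smul_eq_iff.2 g2.symm, k2]
  · rw [mul_smul, ← g3, inv_smul_smul, k3]

theorem orb2 (v : leechLattice) {O S : Finset GolayPt} (hO : O ∈ octads) (hnO : none ∈ O)
    (h0O : some 0 ∈ O) (hS : S ⊆ O) (he : Even S.card) (hn : none ∉ S) (h0 : some 0 ∈ S)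
    (hv : (v : GolayPt → ℤ) = vec 2 O S) : Rc (⟨_, r2_mem⟩ : leechLattice) v := by
  obtain ⟨σ, hσ, h1⟩ := exists_N22_octad_in hO hnO h0O
  obtain ⟨-, hσn, hσ0⟩ := mem_N22.1 hσ
  have m1 : none ∈ O2 := by decide +kernel
  have m2 : some 0 ∈ O2 := by decide +kernel
  have hR : ({some 0, some 12} : Finset GolayPt) ⊆ O2 := by decide +kernel
  have hσS : σ⁻¹ • S ⊆ O2 := by
    rw [Finset.smul_finset_subset_iff, inv_inv, h1]
    exact hS
  have hn' : none ∉ σ⁻¹ • S := by
    intro h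
    have := (mem_smul_iff σ (σ⁻¹ • S) none).2 h
    rw [smul_inv_smul, hσn] at this
    exact hn this
  have h0' : some 0 ∈ σ⁻¹ • S := by
    rw [← mem_smul_iff σ, smul_inv_smul, hσ0]
    exact h0
  obtain ⟨d, hd, hA, h⟩ := exists_mono_vec 2 (T := O2) (T' := O) (S := S)
    (R := {some 0, some 12}) (N22_le hσ) h1 (fun d => none ∉ d ∧ some 0 ∉ d) (mem_N22_smul hσ) hS (by
      have h3 : symmDiff (σ⁻¹ • S) {some 0, some 12} ⊆ O2 := by
        intro x hx
        rcases Finset.mem_symmDiff.1 hx with h | h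
        · exact hσS h.1
        · exact hR h.1
      obtain ⟨d, hd, h4⟩ := sign_O2 h3 (even_card_symmDiff
        (by rw [Finset.card_smul_finset]; exact he) (by decide))
      refine ⟨d, hd, ⟨?_, ?_⟩, h4⟩
      · intro h
        have h5 : none ∈ d ∩ O2 := Finset.mem_inter.2 ⟨h, m1⟩
        rw [h4, Finset.mem_symmDiff] at h5
        rcases h5 with h5 | h5
        · exact hn' h5.1
        · exact absurd h5.1 (by decide)
      · intro h
        have h5 : some 0 ∈ d ∩ O2 := Finset.mem_inter.2 ⟨h, m2⟩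
        rw [h4, Finset.mem_symmDiff] at h5
        rcases h5 with h5 | h5
        · exact h5.2 (by decide)
        · exact h5.2 h0') hR
  refine ⟨monomial σ (N22_le hσ) d hd, mono_fix hσ hd hA a0 a0_eq, mono_fix hσ hd hA b0 b0_eq, ?_⟩
  apply Subtype.ext
  rw [monomial_smul, hv]
  exact h

theorem orb4 (v : leechLattice) {j : GolayPt} {d : Finset GolayPt} (hj1 : j ≠ none)
    (hj2 : j ≠ some 0) (hd : d ∈ SC) (hn : none ∉ d) (h0 : some 0 ∈ d)
    (hv : (v : GolayPt → ℤ) = odd j d) : Rc (⟨_, r4_mem⟩ : leechLattice) v := by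
  obtain ⟨σ, hσ, h1⟩ := exists_N22_point hj1 hj2
  obtain ⟨hσM, hσn, hσ0⟩ := mem_N22.1 hσ
  have b1 : none ∉ fin 1302533 := by decide +kernel
  have b2 : some 0 ∈ fin 1302533 := by decide +kernel
  have a1 := mem_smul_iff σ (fin 1302533) none
  have a2 := mem_smul_iff σ (fin 1302533) (some 0)
  rw [hσn] at a1
  rw [hσ0] at a2
  have he : symmDiff d (σ • fin 1302533) ∈ SC :=
    symmDiff_mem_supports hd ((smul_mem_supports hσM).2 d1_mem)
  have hA : none ∉ symmDiff d (σ • fin 1302533) ∧ some 0 ∉ symmDiff d (σ • fin 1302533) := by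
    refine ⟨?_, ?_⟩
    · intro h
      rcases Finset.mem_symmDiff.1 h with h | h
      · exact hn h.1
      · exact b1 (a1.1 h.1)
    · intro h
      rcases Finset.mem_symmDiff.1 h with h | h
      · exact h.2 (a2.2 b2)
      · exact h.2 h0
  refine ⟨monomial σ (N22_le hσ) _ he, mono_fix hσ he hA a0 a0_eq, mono_fix hσ he hA b0 b0_eq, ?_⟩
  apply Subtype.ext
  rw [monomial_smul, hv]
  show signedPerm σ _ (odd (some 1) (fin 1302533)) = odd j d
  rw [signedPerm_odd, h1, symmDiff_symmDiff_cancel_right]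

/-- A sign change on the support. -/
theorem neg_of_supp (v : leechLattice) {e : Finset GolayPt} (he : e ∈ SC) (h1 : none ∉ e ∧ some 0 ∉ e)
    (hv : ∀ i, i ∉ e → (v : GolayPt → ℤ) i = 0) : ∃ g : Co0, g • a0 = a0 ∧ g • b0 = b0 ∧ g • v = -v := by
  have h1' : (1 : Equiv.Perm GolayPt) ∈ N22 := N22.one_mem
  refine ⟨monomial 1 (N22_le h1') e he, mono_fix h1' he h1 a0 a0_eq, mono_fix h1' he h1 b0 b0_eq, ?_⟩
  apply Subtype.ext
  funext i
  rw [monomial_smul, signedPerm_apply]
  show (if i ∈ e then -(v : GolayPt → ℤ) i else (v : GolayPt → ℤ) i) = -(v : GolayPt → ℤ) i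
  split_ifs with h
  · rfl
  · rw [hv i h, neg_zero]

theorem dot_v0' {x : leechLattice} (h : dt a0 x = 0) : dotInt (x : GolayPt → ℤ) (v0 : GolayPt → ℤ) = 0 := by
  rw [v0_eq]
  show dt x a0 = 0
  rw [dt_comm, h]

theorem T0_cases {x : leechLattice} (h : (x : GolayPt → ℤ) ∈ T0) : x = b0 ∨ x = -b0 := by
  rcases h with h | h
  · left
    apply Subtype.ext
    rw [h]
    funext i
    show vec 4 {none, some 0} {some 0} i = Spor.vecU' i
    revert i
    unfold Spor.vecU'
    decide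
  · right
    apply Subtype.ext
    rw [h]
    funext i
    show vec 4 {none, some 0} {none} i = -Spor.vecU' i
    revert i
    unfold Spor.vecU'
    decide

/-- The vectors orthogonal to both are moved to their negatives. -/
theorem exists_neg {x : leechLattice} (h1 : dt x x = 32) (h2 : dt a0 x = 0) (h3 : dt b0 x = 0) :
    ∃ g : Co0, g • a0 = a0 ∧ g • b0 = b0 ∧ g • x = -x := by
  have h3' := h3
  rw [dt_b0] at h3'
  rcases classify (w := x) (by rw [norm_eq]; exact h1) (dot_v0' h2) with h | h | h | h | h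
  · exfalso
    rcases T0_cases h with rfl | rfl
    · exact absurd h3 (by rw [Cfsg.Agent.SporadicStructure.Co2RankThree.dt_b0_b0]; norm_num)
    · rw [Cfsg.Agent.SporadicStructure.Co2RankThree.dt_neg_right,
        Cfsg.Agent.SporadicStructure.Co2RankThree.dt_b0_b0] at h3
      norm_num at h3
  · obtain ⟨T, S, ⟨hT, hn, h0⟩, hS, hv⟩ := h
    obtain ⟨p, q, hpq, rfl⟩ := Finset.card_eq_two.1 hT
    simp only [Finset.mem_insert, Finset.mem_singleton, not_or] at hn h0
    obtain ⟨σ, hσ, e1, e2⟩ := exists_N22_pair hpq (fun h => hn.1 h.symm) (fun h => h0.1 h.symm)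
      (fun h => hn.2 h.symm) (fun h => h0.2 h.symm)
    obtain ⟨d, hd, hA, hdS⟩ := sign_T1 (S := {some 1, some 2}) (Finset.Subset.refl _)
    refine neg_of_supp x (e := σ • d) ((smul_mem_supports (N22_le hσ)).2 hd) (mem_N22_smul hσ d hA) ?_
    intro i hi
    rw [hv, vec_apply, if_neg]
    intro hi2
    apply hi
    have key : ∀ j ∈ ({some 1, some 2} : Finset GolayPt), σ j ∈ σ • d := by
      intro j hj
      have : j ∈ d := by
        have h5 : j ∈ d ∩ {some 1, some 2} := by rw [hdS]; exact hj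
        exact (Finset.mem_inter.1 h5).1
      exact Finset.smul_mem_smul_finset this
    rcases (by simpa using hi2 : i = p ∨ i = q) with rfl | rfl
    · rw [← e1]; exact key _ (by simp)
    · rw [← e2]; exact key _ (by simp)
  · exfalso
    obtain ⟨O, S, ⟨-, hnO, h0O⟩, ⟨-, -, hn0⟩, hv⟩ := h
    rw [hv, vec_apply, vec_apply, if_pos hnO, if_pos h0O] at h3'
    by_cases h5 : none ∈ S
    · have h6 := hn0.1 h5
      rw [if_pos h5, if_neg h6] at h3'
      omega
    · have h6 : some 0 ∈ S := by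
        by_contra h6
        exact h5 (hn0.2 h6)
      rw [if_neg h5, if_pos h6] at h3'
      omega
  · obtain ⟨O, S, ⟨hO, hn, h0⟩, -, hv⟩ := h
    refine neg_of_supp x (e := O) hO.1 ⟨hn, h0⟩ ?_
    intro i hi
    rw [hv, vec_apply, if_neg hi]
  · exfalso
    obtain ⟨j, d, ⟨hj1, hj2⟩, ⟨hd, hn0⟩, hv⟩ := h
    rw [hv, odd_apply, odd_apply, if_neg (Ne.symm hj1), if_neg (Ne.symm hj2)] at h3'
    by_cases h5 : none ∈ d
    · have h6 := hn0.1 h5
      rw [if_pos h5, if_neg h6] at h3'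
      omega
    · have h6 : some 0 ∈ d := by
        by_contra h6
        exact h5 (hn0.2 h6)
      rw [if_neg h5, if_pos h6] at h3'
      omega

theorem cases16 {x : leechLattice} (h1 : dt x x = 32) (h2 : dt a0 x = 0) (h3 : dt b0 x = 16) :
    Rc (⟨_, r2_mem⟩ : leechLattice) x := by
  have h3' := h3
  rw [dt_b0] at h3'
  rcases classify (w := x) (by rw [norm_eq]; exact h1) (dot_v0' h2) with h | h | h | h | h
  · exfalso
    rcases T0_cases h with rfl | rfl
    · rw [Cfsg.Agent.SporadicStructure.Co2RankThree.dt_b0_b0] at h3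
      norm_num at h3
    · rw [Cfsg.Agent.SporadicStructure.Co2RankThree.dt_neg_right,
        Cfsg.Agent.SporadicStructure.Co2RankThree.dt_b0_b0] at h3
      norm_num at h3
  · exfalso
    obtain ⟨T, S, ⟨hT, hn, h0⟩, hS, hv⟩ := h
    rw [hv, vec_apply, vec_apply, if_neg hn, if_neg h0] at h3'
    omega
  · obtain ⟨O, S, ⟨hO, hnO, h0O⟩, ⟨hS, he, hn0⟩, hv⟩ := h
    rw [hv, vec_apply, vec_apply, if_pos hnO, if_pos h0O] at h3'
    by_cases h5 : none ∈ S
    · have h6 := hn0.1 h5
      rw [if_pos h5, if_neg h6] at h3'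
      omega
    · have h6 : some 0 ∈ S := by
        by_contra h6
        exact h5 (hn0.2 h6)
      exact orb2 x hO hnO h0O hS he h5 h6 hv
  · exfalso
    obtain ⟨O, S, ⟨hO, hn, h0⟩, -, hv⟩ := h
    rw [hv, vec_apply, vec_apply, if_neg hn, if_neg h0] at h3'
    omega
  · exfalso
    obtain ⟨j, d, ⟨hj1, hj2⟩, ⟨hd, hn0⟩, hv⟩ := h
    rw [hv, odd_apply, odd_apply, if_neg (Ne.symm hj1), if_neg (Ne.symm hj2)] at h3'
    split_ifs at h3' <;> omega

theorem cases8 {x : leechLattice} (h1 : dt x x = 32) (h2 : dt a0 x = 0) (h3 : dt b0 x = 8) :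
    Rc (⟨_, r4_mem⟩ : leechLattice) x := by
  have h3' := h3
  rw [dt_b0] at h3'
  rcases classify (w := x) (by rw [norm_eq]; exact h1) (dot_v0' h2) with h | h | h | h | h
  · exfalso
    rcases T0_cases h with rfl | rfl
    · rw [Cfsg.Agent.SporadicStructure.Co2RankThree.dt_b0_b0] at h3
      norm_num at h3
    · rw [Cfsg.Agent.SporadicStructure.Co2RankThree.dt_neg_right,
        Cfsg.Agent.SporadicStructure.Co2RankThree.dt_b0_b0] at h3
      norm_num at h3
  · exfalso
    obtain ⟨T, S, ⟨hT, hn, h0⟩, hS, hv⟩ := h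
    rw [hv, vec_apply, vec_apply, if_neg hn, if_neg h0] at h3'
    omega
  · exfalso
    obtain ⟨O, S, ⟨hO, hnO, h0O⟩, ⟨hS, he, hn0⟩, hv⟩ := h
    rw [hv, vec_apply, vec_apply, if_pos hnO, if_pos h0O] at h3'
    split_ifs at h3' <;> omega
  · exfalso
    obtain ⟨O, S, ⟨hO, hn, h0⟩, -, hv⟩ := h
    rw [hv, vec_apply, vec_apply, if_neg hn, if_neg h0] at h3'
    omega
  · obtain ⟨j, d, ⟨hj1, hj2⟩, ⟨hd, hn0⟩, hv⟩ := h
    rw [hv, odd_apply, odd_apply, if_neg (Ne.symm hj1), if_neg (Ne.symm hj2)] at h3'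
    by_cases h5 : none ∈ d
    · have h6 := hn0.1 h5
      rw [if_pos h5, if_neg h6] at h3'
      omega
    · have h6 : some 0 ∈ d := by
        by_contra h6
        exact h5 (hn0.2 h6)
      exact orb4 x hj1 hj2 hd h5 h6 hv

theorem trans16 {x y : leechLattice} (h1 : dt x x = 32) (h2 : dt a0 x = 0) (h3 : dt b0 x = 16)
    (h1' : dt y y = 32) (h2' : dt a0 y = 0) (h3' : dt b0 y = 16) : Rc x y :=
  (cases16 h1 h2 h3).trans' (cases16 h1' h2' h3')

theorem trans8 {x y : leechLattice} (h1 : dt x x = 32) (h2 : dt a0 x = 0) (h3 : dt b0 x = 8)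
    (h1' : dt y y = 32) (h2' : dt a0 y = 0) (h3' : dt b0 y = 8) : Rc x y :=
  (cases8 h1 h2 h3).trans' (cases8 h1' h2' h3')

end Cfsg.Agent.H714.DG.CoTwoG
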